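import Groth.Prelude.Def_AlgSpInf

set_option autoImplicit false
universe u
open CategoryTheory CategoryTheory.Limits AlgebraicGeometry Opposite

namespace Groth.Agent.Helper16

open AlgSp

variable {S : Scheme.{u}}

/-- Change the morphism and the two arrows of an infinitesimal lifting square, keeping the ring data. -/
noncomputable def InfSq.retarget {F G F' G' : Sp S} {f : F ⟶ G} (sq : InfSq f) (f' : F' ⟶ G')
    (top' : (yon S).obj sq.ptT ⟶ F') (bot' : (yon S).obj sq.ptT' ⟶ G')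
    (comm' : top' ≫ f' = (yon S).map sq.j ≫ bot') : InfSq f' where
  A := sq.A
  I := sq.I
  sq_zero := sq.sq_zero
  str := sq.str
  top := top'
  bot := bot'
  comm := comm'

theorem smooth_lift {F G F' G' : Sp S} {f : F ⟶ G} (sq : InfSq f) {f' : F' ⟶ G'}
    (h : IsFormallySmoothMor f')
    (top' : (yon S).obj sq.ptT ⟶ F') (bot' : (yon S).obj sq.ptT' ⟶ G')
    (comm' : top' ≫ f' = (yon S).map sq.j ≫ bot') :
    ∃ l : (yon S).obj sq.ptT' ⟶ F', (yon S).map sq.j ≫ l = top' ∧ l ≫ f' = bot' :=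
  h (InfSq.retarget sq f' top' bot' comm')

theorem unram_uniq {F G F' G' : Sp S} {f : F ⟶ G} (sq : InfSq f) {f' : F' ⟶ G'}
    (h : IsFormallyUnramifiedMor f')
    (top' : (yon S).obj sq.ptT ⟶ F') (bot' : (yon S).obj sq.ptT' ⟶ G')
    (comm' : top' ≫ f' = (yon S).map sq.j ≫ bot')
    (l l' : (yon S).obj sq.ptT' ⟶ F')
    (h1 : (yon S).map sq.j ≫ l = top') (h2 : l ≫ f' = bot')
    (h3 : (yon S).map sq.j ≫ l' = top') (h4 : l' ≫ f' = bot') : l = l' :=
  h (InfSq.retarget sq f' top' bot' comm') l l' h1 h2 h3 h4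

theorem formallyEtale_iff {F G : Sp S} (f : F ⟶ G) :
    IsFormallyEtaleMor f ↔ IsFormallySmoothMor f ∧ IsFormallyUnramifiedMor f := by
  constructor
  · intro h
    refine ⟨fun sq => ?_, fun sq => ?_⟩
    · obtain ⟨l, hl, -⟩ := h sq
      exact ⟨l, hl⟩
    · obtain ⟨l, -, hl⟩ := h sq
      intro l₁ l₂ h1 h2 h3 h4
      rw [hl l₁ ⟨h1, h2⟩, hl l₂ ⟨h3, h4⟩]
  · rintro ⟨hs, hu⟩ sq
    obtain ⟨l, hl⟩ := hs sq
    exact ⟨l, hl, fun l' hl' => hu sq l' l hl'.1 hl'.2 hl.1 hl.2⟩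

theorem formallySmooth_comp {F G H : Sp S} (a : F ⟶ G) (b : G ⟶ H)
    (ha : IsFormallySmoothMor a) (hb : IsFormallySmoothMor b) : IsFormallySmoothMor (a ≫ b) := by
  intro sq
  obtain ⟨lb, hlb1, hlb2⟩ := smooth_lift sq hb (sq.top ≫ a) sq.bot
    (by rw [Category.assoc]; exact sq.comm)
  obtain ⟨l, hl1, hl2⟩ := smooth_lift sq ha sq.top lb hlb1.symm
  refine ⟨l, hl1, ?_⟩
  rw [← Category.assoc, hl2]
  exact hlb2

theorem formallyUnramified_comp {F G H : Sp S} (a : F ⟶ G) (b : G ⟶ H)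
    (ha : IsFormallyUnramifiedMor a) (hb : IsFormallyUnramifiedMor b) :
    IsFormallyUnramifiedMor (a ≫ b) := by
  intro sq l l' h1 h2 h3 h4
  have key : l ≫ a = l' ≫ a := by
    refine unram_uniq sq hb (sq.top ≫ a) sq.bot
      (by rw [Category.assoc]; exact sq.comm) (l ≫ a) (l' ≫ a) ?_ ?_ ?_ ?_
    · rw [← Category.assoc, h1]
    · rw [Category.assoc]; exact h2
    · rw [← Category.assoc, h3]
    · rw [Category.assoc]; exact h4
  exact unram_uniq sq ha sq.top (l ≫ a) (by rw [← Category.assoc, h1]) l l' h1 rfl h3 key.symm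

theorem formallyUnramified_of_comp {F G H : Sp S} (a : F ⟶ G) (b : G ⟶ H)
    (hab : IsFormallyUnramifiedMor (a ≫ b)) : IsFormallyUnramifiedMor a := by
  intro sq l l' h1 h2 h3 h4
  refine unram_uniq sq hab sq.top (sq.bot ≫ b)
    (by rw [← Category.assoc, sq.comm, Category.assoc]) l l' h1 ?_ h3 ?_
  · rw [← Category.assoc, h2]
  · rw [← Category.assoc, h4]

theorem formallySmooth_of_comp {F G H : Sp S} (a : F ⟶ G) (b : G ⟶ H)
    (hb : IsFormallyUnramifiedMor b)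
    (hab : IsFormallySmoothMor (a ≫ b)) : IsFormallySmoothMor a := by
  intro sq
  obtain ⟨l, hl1, hl2⟩ := smooth_lift sq hab sq.top (sq.bot ≫ b)
    (by rw [← Category.assoc, sq.comm, Category.assoc])
  refine ⟨l, hl1, ?_⟩
  refine unram_uniq sq hb (sq.top ≫ a) (sq.bot ≫ b)
    (by rw [sq.comm, Category.assoc]) (l ≫ a) sq.bot ?_ ?_ ?_ ?_
  · rw [← Category.assoc, hl1]
  · rw [Category.assoc]; exact hl2
  · exact sq.comm.symm
  · rfl

theorem formallySmooth_baseChange {F G H P : Sp S} (a : F ⟶ G) (b : H ⟶ G)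
    (b' : P ⟶ F) (a' : P ⟶ H) (hP : IsPullback b' a' a b)
    (ha : IsFormallySmoothMor a) : IsFormallySmoothMor a' := by
  intro sq
  obtain ⟨l, hl1, hl2⟩ := smooth_lift sq ha (sq.top ≫ b') (sq.bot ≫ b)
    (by rw [Category.assoc, hP.w, ← Category.assoc, sq.comm, Category.assoc])
  refine ⟨hP.lift l sq.bot hl2, ?_, hP.lift_snd _ _ _⟩
  apply hP.hom_ext
  · rw [Category.assoc, hP.lift_fst, hl1]
  · rw [Category.assoc, hP.lift_snd]; exact sq.comm.symm

theorem formallyUnramified_baseChange {F G H P : Sp S} (a : F ⟶ G) (b : H ⟶ G)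
    (b' : P ⟶ F) (a' : P ⟶ H) (hP : IsPullback b' a' a b)
    (ha : IsFormallyUnramifiedMor a) : IsFormallyUnramifiedMor a' := by
  intro sq m m' h1 h2 h3 h4
  apply hP.hom_ext
  · refine unram_uniq sq ha (sq.top ≫ b') (sq.bot ≫ b)
      (by rw [Category.assoc, hP.w, ← Category.assoc, sq.comm, Category.assoc])
      (m ≫ b') (m' ≫ b') ?_ ?_ ?_ ?_
    · rw [← Category.assoc, h1]
    · rw [Category.assoc, hP.w, ← Category.assoc, h2]
    · rw [← Category.assoc, h3]
    · rw [Category.assoc, hP.w, ← Category.assoc, h4]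
  · rw [h2, h4]

end Groth.Agent.Helper16
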